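import Groth.Agent.ArtfunDeform.PicLift.Step

/-!
Invertible modules on an adic system of flat schemes.
-/

set_option autoImplicit false
set_option linter.style.longLine false

noncomputable section

universe u

open CategoryTheory CategoryTheory.Limits AlgebraicGeometry

namespace Groth.ArtfunDeform.PicLift

variable {A : Type u} [CommRing A] [IsNoetherianRing A] (m : Ideal A) [hm : m.IsMaximal]

/-- The base of one level of an adic system. -/
abbrev lev (n : ℕ) : CommRingCat.{u} := CommRingCat.of (A ⧸ m ^ (n + 1))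

/-- Reduction between levels. -/
abbrev red {a b : ℕ} (h : a ≤ b) : A ⧸ m ^ (b + 1) →+* A ⧸ m ^ (a + 1) :=
  Ideal.Quotient.factor (Ideal.pow_le_pow_right (Nat.succ_le_succ h))

variable {Xs : ℕ → Scheme.{u}} {fs : ∀ n : ℕ, Xs n ⟶ Spec (lev m n)} {ts : ∀ n : ℕ, Xs n ⟶ Xs (n + 1)}
  (hcart : ∀ n : ℕ, IsPullback (ts n) (fs n) (fs (n + 1)) (Spec.map (CommRingCat.ofHom (red m (Nat.le_succ n)))))

include hcart in
omit [IsNoetherianRing A] hm in
theorem exists_zero_square : ∀ n, ∃ j : Xs 0 ⟶ Xs n,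
    IsPullback j (fs 0) (fs n) (Spec.map (CommRingCat.ofHom (red m (Nat.zero_le n)))) := by
  intro n
  induction n with
  | zero =>
    refine ⟨𝟙 _, ?_⟩
    have : red m (le_refl 0) = RingHom.id _ := Ideal.Quotient.factor_eq
    rw [this]
    change IsPullback (𝟙 (Xs 0)) (fs 0) (fs 0) (Spec.map (𝟙 _))
    rw [Spec.map_id]
    exact IsPullback.of_horiz_isIso ⟨by simp⟩
  | succ n ih =>
    obtain ⟨j, hj⟩ := ih
    refine ⟨j ≫ ts n, ?_⟩
    have e : Spec.map (CommRingCat.ofHom (red m (Nat.zero_le (n + 1)))) =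
        Spec.map (CommRingCat.ofHom (red m (Nat.zero_le n))) ≫ Spec.map (CommRingCat.ofHom (red m (Nat.le_succ n))) := by
      rw [← Spec.map_comp, ← CommRingCat.ofHom_comp, Ideal.Quotient.factor_comp]
    rw [e]
    exact hj.paste_horiz (hcart n)

omit [IsNoetherianRing A] hm in
theorem ker_red {a b : ℕ} (h : a ≤ b) : RingHom.ker (red m h) = (m ^ (a + 1)).map (Ideal.Quotient.mk (m ^ (b + 1))) :=
  Ideal.Quotient.factor_ker _

omit [IsNoetherianRing A] in
theorem isField_zero : IsField (A ⧸ m ^ (0 + 1)) :=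
  (Ideal.Quotient.maximal_ideal_iff_isField_quotient _).1 (by rwa [zero_add, pow_one])

omit [IsNoetherianRing A] hm in
theorem ker_mul (n : ℕ) :
    RingHom.ker (red m (Nat.zero_le (n + 1))) * RingHom.ker (red m (Nat.le_succ n)) = ⊥ := by
  rw [ker_red, ker_red, ← Ideal.map_mul, ← pow_add, eq_bot_iff, Ideal.map_le_iff_le_comap, ← RingHom.ker_eq_comap_bot,
    Ideal.mk_ker]
  exact Ideal.pow_le_pow_right (by omega)

omit [IsNoetherianRing A] hm in
theorem ker_le (n : ℕ) : RingHom.ker (red m (Nat.le_succ n)) ≤ RingHom.ker (red m (Nat.zero_le (n + 1))) := by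
  rw [ker_red, ker_red]
  exact Ideal.map_mono (Ideal.pow_le_pow_right (by omega))

variable (hflat : ∀ n, Flat (fs n))

include hcart hflat in
theorem picPullbackSurjective_step [(Xs 0).IsSeparated]
    (h : Subsingleton (Coh.HH (Xs 0) (Coh.structureModule (Xs 0)) 2)) (n : ℕ) :
    Formal2.PicPullbackSurjective (ts n) := by
  obtain ⟨j, hj⟩ := exists_zero_square m hcart (n + 1)
  have := hflat (n + 1)
  have hs : Function.Surjective (red m (Nat.zero_le (n + 1))) := Ideal.Quotient.factor_surjective _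
  have hc : IsClosedImmersion j := MorphismProperty.of_isPullback hj.flip (IsClosedImmersion.spec_of_surjective _ hs)
  have hsurj : Surjective (Spec.map (CommRingCat.ofHom (red m (Nat.zero_le (n + 1))))) := by
    let _ := (isField_zero m).toField
    refine ⟨fun x => ⟨(⟨⊥, Ideal.isPrime_bot⟩ : PrimeSpectrum (A ⧸ m ^ (0 + 1))), PrimeSpectrum.ext ?_⟩⟩
    change Ideal.comap (red m (Nat.zero_le (n + 1))) ⊥ = x.asIdeal
    rw [← RingHom.ker_eq_comap_bot]
    refine (RingHom.ker_isMaximal_of_surjective _ hs).eq_of_le x.2.ne_top ?_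
    rw [ker_red, Ideal.map_le_iff_le_comap]
    intro a ha
    have : Ideal.Quotient.mk (m ^ (n + 1 + 1)) a ^ (n + 1 + 1) = 0 := by
      rw [← map_pow, Ideal.Quotient.eq_zero_iff_mem]
      exact Ideal.pow_mem_pow (by simpa using ha) _
    exact x.2.mem_of_pow_mem _ (this ▸ x.asIdeal.zero_mem)
  have : Surjective j := MorphismProperty.of_isPullback hj.flip hsurj
  have : (Xs (n + 1)).IsSeparated :=
    ⟨Groth.Flatmor4.isSeparated_of_thickening (terminal.from _) (terminal.from (Xs 0)) j (𝟙 _)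
      (terminal.hom_ext _ _)⟩
  exact picPullbackSurjective (Ideal.Quotient.factor_surjective _) hs (isField_zero m) (IsNoetherian.noetherian _)
    (ker_le m n) (ker_mul m n) (fs (n + 1)) (hcart n) hj h

include hcart hflat in
/-- Lifts to all levels. -/
theorem exists_lifts [(Xs 0).IsSeparated]
    (h : Subsingleton (Coh.HH (Xs 0) (Coh.structureModule (Xs 0)) 2))
    (L₀ : (Xs 0).Modules) (hL₀ : PicF.IsInvertible L₀) :
    ∃ L : ∀ n : ℕ, (Xs n).Modules, (∀ n, PicF.IsInvertible (L n)) ∧ Nonempty (L 0 ≅ L₀) ∧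
      ∀ n, Nonempty ((Scheme.Modules.pullback (ts n)).obj (L (n + 1)) ≅ L n) := by
  let S : ∀ n : ℕ, {L : (Xs n).Modules // PicF.IsInvertible L} := fun n => Nat.rec
    (motive := fun n => {L : (Xs n).Modules // PicF.IsInvertible L}) ⟨L₀, hL₀⟩
    (fun n L => ⟨(picPullbackSurjective_step m hcart hflat h n L.1 L.2).choose,
      (picPullbackSurjective_step m hcart hflat h n L.1 L.2).choose_spec.1⟩) n
  exact ⟨fun n => (S n).1, fun n => (S n).2, ⟨Iso.refl _⟩,
    fun n => (picPullbackSurjective_step m hcart hflat h n (S n).1 (S n).2).choose_spec.2⟩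

include hcart hflat in
/-- Lifts to all levels are unique. -/
theorem lifts_unique (h : Subsingleton (Coh.HH (Xs 0) (Coh.structureModule (Xs 0)) 1))
    (L L' : ∀ n : ℕ, (Xs n).Modules) (hL : ∀ n, PicF.IsInvertible (L n)) (hL' : ∀ n, PicF.IsInvertible (L' n))
    (hLt : ∀ n, Nonempty ((Scheme.Modules.pullback (ts n)).obj (L (n + 1)) ≅ L n))
    (hL't : ∀ n, Nonempty ((Scheme.Modules.pullback (ts n)).obj (L' (n + 1)) ≅ L' n))
    (e₀ : L 0 ≅ L' 0) : ∀ n, Nonempty (L n ≅ L' n) := by
  intro n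
  induction n with
  | zero => exact ⟨e₀⟩
  | succ n ih =>
    obtain ⟨e⟩ := ih
    obtain ⟨a⟩ := hLt n
    obtain ⟨b⟩ := hL't n
    obtain ⟨j, hj⟩ := exists_zero_square m hcart (n + 1)
    have := hflat (n + 1)
    exact nonempty_iso (Ideal.Quotient.factor_surjective _) (Ideal.Quotient.factor_surjective _) (isField_zero m)
      (IsNoetherian.noetherian _) (ker_le m n) (ker_mul m n) (fs (n + 1)) (hcart n) hj h (hL (n + 1)) (hL' (n + 1))
      ⟨a ≪≫ e ≪≫ b.symm⟩

end Groth.ArtfunDeform.PicLift
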