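import Groth.Agent.ArtfunDeform.PicLift.FormalSys
import Groth.Agent.Calg6.ClosedImmStalk
import Groth.Agent.CohBase.IsoNearFibre
import Groth.Agent.LocFree.Basic
import Groth.Agent.Abvar.Seesaw.Core

/-!
A coherent module invertible on all infinitesimal neighbourhoods of the closed fibre is invertible.
-/

set_option autoImplicit false
set_option linter.style.longLine false

noncomputable section

universe u

open CategoryTheory CategoryTheory.Limits AlgebraicGeometry IsLocalRing
open scoped TensorProduct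
open Groth.CohC3 (baseApp)
open Groth.ArtfunDeform.VbLift (ker_app)

namespace Groth.ArtfunDeform.PicLift

/-- A finite module free of rank one modulo ideals deep in the maximal ideal is free of rank one. -/
theorem nonempty_equiv_of_quotients {R M : Type u} [CommRing R] [IsLocalRing R] [IsNoetherianRing R]
    [AddCommGroup M] [Module R M] [Module.Finite R M]
    (h : ∀ n : ℕ, ∃ K : Ideal R, K ≤ maximalIdeal R ^ (n + 1) ∧ ∃ φ : M →ₗ[R] R ⧸ K,
      Function.Surjective φ ∧ LinearMap.ker φ ≤ K • ⊤) :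
    Nonempty (R ≃ₗ[R] M) := by
  obtain ⟨K, hK, φ, hφ, hker⟩ := h 0
  rw [zero_add, pow_one] at hK
  obtain ⟨t, ht⟩ := hφ 1
  have hspan : Submodule.span R {t} = ⊤ := by
    refine eq_top_iff.2 (Submodule.le_of_le_smul_of_le_jacobson_bot Module.Finite.fg_top
      (IsLocalRing.maximalIdeal_le_jacobson ⊥) fun v _ => ?_)
    obtain ⟨r, hr⟩ := Ideal.Quotient.mk_surjective (φ v)
    have hv : v - r • t ∈ maximalIdeal R • (⊤ : Submodule R M) := by
      refine Submodule.smul_mono_left hK (hker ?_)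
      rw [LinearMap.mem_ker, map_sub, map_smul, ht, ← hr, Algebra.smul_def, mul_one]
      exact sub_self _
    exact Submodule.mem_sup.2 ⟨r • t, Submodule.smul_mem _ _ (Submodule.mem_span_singleton_self t),
      v - r • t, hv, add_sub_cancel _ _⟩
  refine ⟨LinearEquiv.ofBijective (LinearMap.toSpanSingleton R M t)
    ⟨(injective_iff_map_eq_zero _).2 fun r hr => ?_, fun v => ?_⟩⟩
  · have hmem : ∀ n, r ∈ maximalIdeal R ^ (n + 1) := fun n => by
      obtain ⟨K, hK, φ, hφ, -⟩ := h n
      obtain ⟨v, hv⟩ := hφ 1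
      obtain ⟨s, rfl⟩ := Submodule.mem_span_singleton.1 (hspan ▸ Submodule.mem_top : v ∈ Submodule.span R {t})
      refine hK (Ideal.Quotient.eq_zero_iff_mem.1 ?_)
      calc Ideal.Quotient.mk K r = r • (1 : R ⧸ K) := by rw [Algebra.smul_def, mul_one]; rfl
        _ = r • φ (s • t) := by rw [hv]
        _ = 0 := by
          rw [← map_smul, smul_comm, show r • t = 0 from hr, smul_zero, map_zero]
    have : r ∈ (⨅ n, maximalIdeal R ^ n : Ideal R) := Ideal.mem_iInf.2 fun n =>
      Ideal.pow_le_pow_right (Nat.le_succ n) (hmem n)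
    rwa [Ideal.iInf_pow_eq_bot_of_isLocalRing _ (maximalIdeal.isMaximal R).ne_top, Ideal.mem_bot] at this
  · exact Submodule.mem_span_singleton.1 (hspan ▸ Submodule.mem_top : v ∈ Submodule.span R {t})

/-- A module free of rank one over a quotient ring gives a map onto the quotient. -/
theorem exists_quotient_map {R B M : Type u} [CommRing R] [CommRing B] [Algebra R B]
    (hs : Function.Surjective (algebraMap R B)) [AddCommGroup M] [Module R M] (e : B ⊗[R] M ≃ₗ[B] B) :
    ∃ φ : M →ₗ[R] R ⧸ RingHom.ker (algebraMap R B),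
      Function.Surjective φ ∧ LinearMap.ker φ ≤ RingHom.ker (algebraMap R B) • ⊤ := by
  let K := RingHom.ker (algebraMap R B)
  let l : (R ⧸ K) ≃ₗ[R] B := (Ideal.quotientKerAlgEquivOfSurjective (f := Algebra.ofId R B) hs).toLinearEquiv
  have hl : l 1 = 1 := map_one (Ideal.quotientKerAlgEquivOfSurjective (f := Algebra.ofId R B) hs)
  let ψ : M →ₗ[R] B := (e.toLinearMap.restrictScalars R).comp (TensorProduct.mk R B M 1)
  refine ⟨l.symm.toLinearMap.comp ψ, l.symm.surjective.comp (e.surjective.comp ?_), fun v hv => ?_⟩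
  · exact TensorProduct.mk_surjective R M B hs
  · rw [LinearMap.mem_ker, LinearMap.comp_apply, LinearEquiv.coe_coe, LinearEquiv.map_eq_zero_iff] at hv
    have hv' : (1 : B) ⊗ₜ[R] v = 0 := e.injective (hv.trans (map_zero e).symm)
    have h2 := congrArg (TensorProduct.quotTensorEquivQuotSMul M K)
      ((congrArg (TensorProduct.congr l.symm (LinearEquiv.refl R M)) hv').trans (map_zero _))
    rw [TensorProduct.congr_tmul, LinearEquiv.refl_apply, show l.symm 1 = (1 : R ⧸ K) from (l.symm_apply_eq).2 hl.symm,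
      map_zero, ← map_one (Ideal.Quotient.mk K), TensorProduct.quotTensorEquivQuotSMul_mk_tmul, one_smul] at h2
    exact (Submodule.Quotient.mk_eq_zero _).1 h2

variable {A : Type u} [CommRing A] (m : Ideal A) (X : Scheme.{u}) [X.Over (Spec (CommRingCat.of A))]

theorem baseApp_nbhd (n : ℕ) (U : (nbhd m X n).Opens) {a : A} (ha : a ∈ m ^ (n + 1)) :
    baseApp (A := A) (nbhd m X n) U a = 0 := by
  have h := congrArg (fun φ : Coh.structureModule (nbhd m X n) ⟶ Coh.structureModule (nbhd m X n) =>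
    Groth.PicAux.toFun (φ.app U (Groth.PicAux.oneSec (nbhd m X n) U))) (smulMod_nbhd m X n _ ha)
  simp only at h
  rw [Groth.CohC3.smulMod_app, Groth.PicAux.toFun_smul, Groth.PicAux.toFun_oneSec, mul_one] at h
  exact h.trans rfl

theorem germ_mem_maximalIdeal (z : nbhd m X 0) {U : X.Opens} (hU : incl m X 0 z ∈ U) {a : A} (ha : a ∈ m) :
    X.presheaf.germ U (incl m X 0 z) hU (baseApp X U a) ∈ maximalIdeal (X.presheaf.stalk (incl m X 0 z)) := by
  rw [IsLocalRing.mem_maximalIdeal, mem_nonunits_iff]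
  intro hu
  have h := hu.map ((incl m X 0).stalkMap z).hom
  rw [Scheme.Hom.germ_stalkMap_apply, Groth.CohC3.baseApp_preimage rfl,
    baseApp_nbhd m X 0 _ (by rwa [zero_add, pow_one]), map_zero] at h
  exact not_isUnit_zero h

theorem ker_stalkMap_le (n : ℕ) (y : nbhd m X n) (hy : incl m X n y ∈ Set.range (incl m X 0)) :
    RingHom.ker ((incl m X n).stalkMap y).hom ≤ maximalIdeal (X.presheaf.stalk (incl m X n y)) ^ (n + 1) := by
  rw [Groth.Calg6.ClosedImmStalk.ker_stalkMap_eq]
  refine iSup₂_le fun U hU => ?_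
  rw [Scheme.Hom.ker_apply, ker_app Ideal.Quotient.mk_surjective (IsPullback.of_hasPullback _ _) U,
    Ideal.mk_ker, Ideal.map_map, Ideal.map_pow]
  refine Ideal.pow_right_mono (Ideal.map_le_iff_le_comap.2 fun a ha => ?_) _
  obtain ⟨z, hz⟩ := hy
  have key : ∀ (x : X) (hx : incl m X 0 z = x) (hU : x ∈ U.1),
      X.presheaf.germ U.1 x hU (baseApp X U.1 a) ∈ maximalIdeal (X.presheaf.stalk x) := by
    rintro x rfl hU
    exact germ_mem_maximalIdeal m X z hU ha
  exact key _ hz hU

theorem range_incl_zero_le (n : ℕ) (x : X) (hx : x ∈ Set.range (incl m X 0)) : x ∈ Set.range (incl m X n) := by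
  obtain ⟨z, rfl⟩ := hx
  have h : incl m X 0 ≫ (X ↘ Spec (CommRingCat.of A)) =
      (nbhdTo m X 0 ≫ Spec.map (CommRingCat.ofHom (red m (Nat.zero_le n)))) ≫ redTop m n := by
    rw [Category.assoc, ← Spec.map_comp, ← CommRingCat.ofHom_comp, Ideal.Quotient.factor_comp_mk]
    exact pullback.condition
  exact ⟨pullback.lift (incl m X 0) _ h z, (Scheme.Hom.comp_apply _ _ z).symm.trans
    (congrFun (congrArg (fun g : nbhd m X 0 ⟶ X => (g : _ → _)) (pullback.lift_fst _ _ h)) z)⟩

theorem free_stalk_closedFibre [IsLocallyNoetherian X] {M : X.Modules} (hM : Coh.IsCoh M)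
    (h : ∀ n, PicF.IsInvertible ((Scheme.Modules.pullback (incl m X n)).obj M))
    (x : X) (hx : x ∈ Set.range (incl m X 0)) :
    Nonempty (X.presheaf.stalk x ≃ₗ[X.presheaf.stalk x] M.presheaf.stalk x) := by
  have := hM.1
  have := Groth.QCohMod.finite_stalk M hM.2 x
  refine nonempty_equiv_of_quotients fun n => ?_
  obtain ⟨y, rfl⟩ := range_incl_zero_le m X n x hx
  let _ := Groth.QCohMod.stalkAlg (incl m X n) y
  obtain ⟨b⟩ := Groth.Abvar.Seesaw.exists_stalk_equiv (h n) y
  refine ⟨RingHom.ker ((incl m X n).stalkMap y).hom, ker_stalkMap_le m X n y hx, ?_⟩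
  exact exists_quotient_map ((incl m X n).stalkMap_surjective y)
    ((Groth.QCohMod.pullStalkEquiv (incl m X n) M y).trans b.symm)

theorem exists_basis_one [IsLocallyNoetherian X] {M : X.Modules} (hM : Coh.IsCoh M)
    (h : ∀ n, PicF.IsInvertible ((Scheme.Modules.pullback (incl m X n)).obj M))
    (x : X) (hx : x ∈ Set.range (incl m X 0)) :
    ∃ (U : X.Opens) (s : Fin 1 → Γ(M, U)), x ∈ U ∧ Groth.PicAux.Basis' M U s := by
  obtain ⟨e⟩ := free_stalk_closedFibre m X hM h x hx
  have : Module.Free (X.presheaf.stalk x) (M.presheaf.stalk x) := Module.Free.of_equiv e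
  obtain ⟨U, n, s, hxU, hs⟩ := Groth.KTheory.LocFree.exists_basis_of_free_stalk hM x
  obtain ⟨z, rfl⟩ := hx
  obtain ⟨V, t, hzV, ht⟩ := (Groth.LocFree.isFinLocFreeOfRank_iff).1
    (Groth.LocFree.isInvertible_iff_ofRank_one.1 (h 0)) z
  obtain rfl : n = 1 := Groth.CohBase.rank_eq_of_basis' (x := z)
    (⟨hxU, hzV⟩ : z ∈ (incl m X 0) ⁻¹ᵁ U ⊓ V) ((hs.pull (incl m X 0)).res' inf_le_left) (ht.res' inf_le_right)
  exact ⟨U, s, hxU, hs⟩

variable [IsLocalRing A]

theorem mem_range_redTop_zero : (closedPoint A : Spec (CommRingCat.of A)) ∈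
    Set.range (redTop (maximalIdeal A) 0) := by
  have hm : (maximalIdeal A ^ (0 + 1)).IsMaximal := by
    rw [zero_add, pow_one]
    exact maximalIdeal.isMaximal A
  let q : PrimeSpectrum (A ⧸ maximalIdeal A ^ (0 + 1)) :=
    ⟨⊥, (Ideal.Quotient.maximal_ideal_iff_isField_quotient _).1 hm |>.toField |> fun _ => Ideal.isPrime_bot⟩
  refine ⟨q, PrimeSpectrum.ext ?_⟩
  change Ideal.comap (Ideal.Quotient.mk (maximalIdeal A ^ (0 + 1))) ⊥ = maximalIdeal A
  rw [← RingHom.ker_eq_comap_bot, Ideal.mk_ker, zero_add, pow_one]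

/-- An open set containing the closed fibre of a proper scheme over a local ring is everything. -/
theorem eq_univ_of_closedFibre [IsProper (X ↘ Spec (CommRingCat.of A))] {S : Set X} (hS : IsOpen S)
    (h : Set.range (incl (maximalIdeal A) X 0) ⊆ S) : S = Set.univ := by
  by_contra hne
  obtain ⟨x, hx⟩ := (Set.ne_univ_iff_exists_notMem S).1 hne
  have hcl := (X ↘ Spec (CommRingCat.of A)).isClosedMap _ hS.isClosed_compl
  obtain ⟨x₁, hx₁, hf⟩ := (IsLocalRing.specializes_closedPoint ((X ↘ Spec (CommRingCat.of A)) x)).mem_closed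
    hcl ⟨x, hx, rfl⟩
  refine hx₁ (h ?_)
  rw [Scheme.Pullback.range_fst]
  change (X ↘ Spec (CommRingCat.of A)) x₁ ∈ Set.range (redTop (maximalIdeal A) 0)
  rw [hf]
  exact mem_range_redTop_zero

/-- A coherent module invertible on all neighbourhoods of the closed fibre is invertible. -/
theorem isInvertible_of_nbhds [IsProper (X ↘ Spec (CommRingCat.of A))] [IsLocallyNoetherian X] {M : X.Modules}
    (hM : Coh.IsCoh M)
    (h : ∀ n, PicF.IsInvertible ((Scheme.Modules.pullback (incl (maximalIdeal A) X n)).obj M)) :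
    PicF.IsInvertible M := by
  rw [Groth.LocFree.isInvertible_iff_ofRank_one, Groth.LocFree.isFinLocFreeOfRank_iff]
  let S : Set X := {x | ∃ (U : X.Opens) (s : Fin 1 → Γ(M, U)), x ∈ U ∧ Groth.PicAux.Basis' M U s}
  have hS : IsOpen S := isOpen_iff_forall_mem_open.2 fun x ⟨U, s, hx, hs⟩ =>
    ⟨U, fun x' hx' => ⟨U, s, hx', hs⟩, U.2, hx⟩
  intro x
  change x ∈ S
  rw [eq_univ_of_closedFibre X hS fun y hy => exists_basis_one _ X hM h y hy]
  exact Set.mem_univ x

end Groth.ArtfunDeform.PicLift
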