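import Groth.Agent.ArtfunDeform.PicLift.FormalInv
import Groth.Agent.CohC3.ExistenceProper
import Groth.Agent.SmoothExt.Bridge

/-!
Invertible modules lift from the closed fibre of a proper flat scheme over a complete local ring.
-/

set_option autoImplicit false
set_option linter.style.longLine false

noncomputable section

universe u

open CategoryTheory CategoryTheory.Limits AlgebraicGeometry Opposite IsLocalRing
open Groth.CohC3 (isQuot_modPowπ)

namespace Groth.ArtfunDeform.PicLift

/-- Vanishing of the cohomology of the structure sheaf is invariant under isomorphisms. -/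
theorem subsingleton_hh_of_isIso {Z W : Scheme.{u}} (φ : Z ⟶ W) [IsIso φ] (q : ℕ)
    (h : Subsingleton (Coh.HH W (Coh.structureModule W) q)) :
    Subsingleton (Coh.HH Z (Coh.structureModule Z) q) := by
  have := Groth.PicAux.isQCoh_structureModule W
  have := Groth.PicAux.isQCoh_structureModule Z
  have : IsIso (Groth.PicAux.pullUnit φ) := Groth.PicAux.isIso_pullUnit φ
  have hu : IsIso ((Scheme.Modules.pullbackPushforwardAdjunction φ).unit.app (Coh.structureModule W)) := by
    refine (Groth.QCohMod.isIso_unit_closedImmersion_iff φ _).2 fun U a ha s => ?_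
    rw [Scheme.Hom.ker_apply, RingHom.mem_ker] at ha
    have h0 : a = 0 := (ConcreteCategory.bijective_of_isIso (φ.app U.1)).1 (ha.trans (map_zero _).symm)
    rw [h0, zero_smul]
  let e : Coh.structureModule W ≅ (Scheme.Modules.pushforward φ).obj (Coh.structureModule Z) :=
    asIso ((Scheme.Modules.pullbackPushforwardAdjunction φ).unit.app (Coh.structureModule W)) ≪≫
      (Scheme.Modules.pushforward φ).mapIso (asIso (Groth.PicAux.pullUnit φ))
  obtain ⟨a⟩ := Groth.CohBase.nonempty_equiv_H_push φ (Coh.structureModule Z) q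
  exact @Equiv.subsingleton _ _ a.symm.toEquiv (Groth.SmoothExt.subsingleton_hh_of_iso e h)

variable {A : Type u} [CommRing A]

section

variable (m : Ideal A) (X : Scheme.{u}) [X.Over (Spec (CommRingCat.of A))]

theorem nonempty_pull_iso (L : ∀ n, (nbhd m X n).Modules)
    (a : ∀ n, (Scheme.Modules.pullback (step m X n)).obj (L (n + 1)) ≅ L n) (M : X.Modules)
    (θ : Formal.completion m M ≅ formalMod m X L a) (n : ℕ) :
    Nonempty ((Scheme.Modules.pullback (incl m X n)).obj M ≅ L n) := by
  let Ad := Scheme.Modules.pullbackPushforwardAdjunction (incl m X n)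
  have hm : IsIso ((Scheme.Modules.pullback (incl m X n)).map (Formal.modPowπ m (n + 1) M)) :=
    ((isQuot_modPowπ m (n + 1) M).map_adj Ad rfl).isIso_of_killedBy fun b hb => smulMod_nbhd m X n _ hb
  have := Groth.Misc7.ClosedImm.isIso_counit (incl m X n)
  exact ⟨(asIso ((Scheme.Modules.pullback (incl m X n)).map (Formal.modPowπ m (n + 1) M))).trans
    (((Scheme.Modules.pullback (incl m X n)).mapIso (θ.app (op n))).trans ((asIso Ad.counit).app (L n)))⟩

theorem flat_nbhdTo [Flat (X ↘ Spec (CommRingCat.of A))] (n : ℕ) : Flat (nbhdTo m X n) :=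
  MorphismProperty.of_isPullback (IsPullback.of_hasPullback (X ↘ Spec (CommRingCat.of A)) (redTop m n)) ‹_›

theorem isSeparated_nbhd [IsSeparated (X ↘ Spec (CommRingCat.of A))] (n : ℕ) : (nbhd m X n).IsSeparated := by
  refine ⟨?_⟩
  rw [← terminal.comp_from (nbhdTo m X n)]
  infer_instance

end

theorem residue_eq_comp [IsLocalRing A] : residue A = (Ideal.Quotient.factor
    (show maximalIdeal A ^ (0 + 1) ≤ maximalIdeal A by rw [zero_add, pow_one])).comp
    (Ideal.Quotient.mk (maximalIdeal A ^ (0 + 1))) := by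
  rw [Ideal.Quotient.factor_comp_mk]
  rfl

/-- The closed fibre is the first neighbourhood. -/
theorem exists_closedFibre_iso [IsLocalRing A] (X : Scheme.{u}) [X.Over (Spec (CommRingCat.of A))] :
    ∃ φ : nbhd (maximalIdeal A) X 0 ≅ pullback (X ↘ Spec (CommRingCat.of A)) (Spec.map (CommRingCat.ofHom (residue A))),
      φ.hom ≫ pullback.fst _ _ = incl (maximalIdeal A) X 0 := by
  let ψ : A ⧸ maximalIdeal A ^ (0 + 1) →+* A ⧸ maximalIdeal A :=
    Ideal.Quotient.factor (by rw [zero_add, pow_one])
  have hbij : Function.Bijective ψ := by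
    refine ⟨(RingHom.injective_iff_ker_eq_bot ψ).2 ?_, Ideal.Quotient.factor_surjective _⟩
    rw [Ideal.Quotient.factor_ker, ← le_bot_iff, Ideal.map_le_iff_le_comap, ← RingHom.ker_eq_comap_bot,
      Ideal.mk_ker, zero_add, pow_one]
  have hψ : IsIso (Spec.map (CommRingCat.ofHom ψ)) := by
    have : IsIso (CommRingCat.ofHom ψ) := (ConcreteCategory.isIso_iff_bijective _).2 hbij
    infer_instance
  let ι := asIso (Spec.map (CommRingCat.ofHom ψ))
  have e : Spec.map (CommRingCat.ofHom (residue A)) = ι.hom ≫ redTop (maximalIdeal A) 0 := by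
    change _ = Spec.map (CommRingCat.ofHom ψ) ≫ _
    rw [← Spec.map_comp, ← CommRingCat.ofHom_comp, residue_eq_comp]
    rfl
  have h : IsPullback (incl (maximalIdeal A) X 0) (nbhdTo (maximalIdeal A) X 0 ≫ ι.inv)
      (X ↘ Spec (CommRingCat.of A)) (Spec.map (CommRingCat.ofHom (residue A))) := by
    refine (IsPullback.of_hasPullback (X ↘ Spec (CommRingCat.of A)) (redTop (maximalIdeal A) 0)).of_iso
      (Iso.refl _) (Iso.refl _) ι.symm (Iso.refl _) ?_ ?_ ?_ ?_
    · simp
    · simp
    · simp
    · rw [Iso.refl_hom, Category.comp_id, Iso.symm_hom]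
      exact (ι.inv_hom_id_assoc _).symm.trans (congrArg (fun g => ι.inv ≫ g) e.symm)
  exact ⟨h.isoPullback, h.isoPullback_hom_fst⟩

/-- Invertible modules on the closed fibre lift when its second cohomology vanishes. -/
theorem exists_invertible_lift [IsLocalRing A] [IsNoetherianRing A] [IsAdicComplete (maximalIdeal A) A]
    (X : Scheme.{u}) [X.Over (Spec (CommRingCat.of A))] [IsProper (X ↘ Spec (CommRingCat.of A))]
    [Flat (X ↘ Spec (CommRingCat.of A))]
    (h2 : Subsingleton (Coh.HH (nbhd (maximalIdeal A) X 0) (Coh.structureModule _) 2))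
    (L₀ : (nbhd (maximalIdeal A) X 0).Modules) (hL₀ : PicF.IsInvertible L₀) :
    ∃ M : X.Modules, PicF.IsInvertible M ∧
      Nonempty ((Scheme.Modules.pullback (incl (maximalIdeal A) X 0)).obj M ≅ L₀) := by
  have := Groth.CohC3.isNoetherian_of_proper A X
  have := isSeparated_nbhd (maximalIdeal A) X 0
  obtain ⟨L, hL, ⟨e₀⟩, ha⟩ := exists_lifts (maximalIdeal A) (isPullback_step (maximalIdeal A) X)
    (flat_nbhdTo (maximalIdeal A) X) h2 L₀ hL₀
  let a := fun n => (ha n).some
  obtain ⟨M, hM, ⟨θ⟩⟩ := Groth.CohC3.algebraizes_proper (A := A) (I := maximalIdeal A) X (formalMod _ X L a)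
    (isCohFormal_formalMod _ X L a fun n => Groth.VarietyBC.CurveGG.isCoh_of_isInvertible (hL n))
  refine ⟨M, isInvertible_of_nbhds (A := A) X hM fun n => ?_, ?_⟩
  · obtain ⟨e⟩ := nonempty_pull_iso _ X L a M θ n
    exact Groth.PicAux.isInvertible_of_iso (hL n) e.symm
  · obtain ⟨e⟩ := nonempty_pull_iso _ X L a M θ 0
    exact ⟨e ≪≫ e₀⟩

end Groth.ArtfunDeform.PicLift
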