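import Groth.Agent.ArtfunDeform.PicLift.Adic
import Groth.Agent.CohC3.ModIdeal
import Groth.Agent.CohC3.PushPull
import Groth.Agent.Misc7.ClosedImm.Modules
import Groth.Agent.VarietyBC.CurveGG

/-!
The formal module of a system of modules on the infinitesimal neighbourhoods of a closed fibre.
-/

set_option autoImplicit false
set_option linter.style.longLine false

noncomputable section

universe u

open CategoryTheory CategoryTheory.Limits AlgebraicGeometry Opposite
open Groth.CohC3 (baseApp IsQuot isQuot_modPowπ isQCoh_of_isQuot sysMap smulMod_app)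
open Groth.ArtfunDeform.VbLift (ker_app)

namespace Groth.ArtfunDeform.PicLift

variable {A : Type u} [CommRing A] (m : Ideal A) (X : Scheme.{u}) [X.Over (Spec (CommRingCat.of A))]

/-- The reduction to one level. -/
abbrev redTop (n : ℕ) : Spec (lev m n) ⟶ Spec (CommRingCat.of A) :=
  Spec.map (CommRingCat.ofHom (Ideal.Quotient.mk (m ^ (n + 1))))

/-- The infinitesimal neighbourhoods of the closed fibre. -/
abbrev nbhd (n : ℕ) : Scheme.{u} := pullback (X ↘ Spec (CommRingCat.of A)) (redTop m n)

/-- The inclusion of a neighbourhood. -/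
abbrev incl (n : ℕ) : nbhd m X n ⟶ X := pullback.fst _ _

/-- The structure map of a neighbourhood. -/
abbrev nbhdTo (n : ℕ) : nbhd m X n ⟶ Spec (lev m n) := pullback.snd _ _

instance nbhdOver (n : ℕ) : (nbhd m X n).Over (Spec (CommRingCat.of A)) :=
  ⟨incl m X n ≫ (X ↘ Spec (CommRingCat.of A))⟩

instance isClosedImmersion_incl (n : ℕ) : IsClosedImmersion (incl m X n) :=
  MorphismProperty.of_isPullback (IsPullback.of_hasPullback _ _).flip
    (IsClosedImmersion.spec_of_surjective _ Ideal.Quotient.mk_surjective)

theorem redTop_red (n : ℕ) :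
    Spec.map (CommRingCat.ofHom (red m (Nat.le_succ n))) ≫ redTop m (n + 1) = redTop m n := by
  rw [← Spec.map_comp, ← CommRingCat.ofHom_comp, Ideal.Quotient.factor_comp_mk]

/-- The transition between neighbourhoods. -/
abbrev step (n : ℕ) : nbhd m X n ⟶ nbhd m X (n + 1) :=
  pullback.lift (incl m X n) (nbhdTo m X n ≫ Spec.map (CommRingCat.ofHom (red m (Nat.le_succ n))))
    (by rw [Category.assoc, redTop_red]; exact pullback.condition)

theorem step_incl (n : ℕ) : step m X n ≫ incl m X (n + 1) = incl m X n := pullback.lift_fst _ _ _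

theorem isPullback_step (n : ℕ) : IsPullback (step m X n) (nbhdTo m X n) (nbhdTo m X (n + 1))
    (Spec.map (CommRingCat.ofHom (red m (Nat.le_succ n)))) := by
  refine IsPullback.of_right ?_ (pullback.lift_snd _ _ _) (IsPullback.of_hasPullback (X ↘ Spec (CommRingCat.of A)) (redTop m (n + 1)))
  rw [step_incl, redTop_red]
  exact IsPullback.of_hasPullback _ _

theorem smulMod_nbhd (n : ℕ) (N : (nbhd m X n).Modules) {a : A} (ha : a ∈ m ^ (n + 1)) :
    Formal.smulMod A N a = 0 := by
  refine Scheme.Modules.hom_ext _ _ fun U => ?_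
  ext s
  refine (smulMod_app N a U s).trans ?_
  have h0 : Coh.toGlobal ((nbhd m X n) ↘ Spec (CommRingCat.of A)) a = 0 := by
    change ((incl m X n) ≫ (X ↘ Spec (CommRingCat.of A))).appTop ((Scheme.ΓSpecIso (CommRingCat.of A)).inv a) = 0
    rw [show incl m X n ≫ (X ↘ Spec (CommRingCat.of A)) = nbhdTo m X n ≫ redTop m n from pullback.condition,
      Scheme.Hom.comp_appTop, CommRingCat.comp_apply]
    have h : (redTop m n).appTop ((Scheme.ΓSpecIso (CommRingCat.of A)).inv a) =
        (Scheme.ΓSpecIso (lev m n)).inv (Ideal.Quotient.mk (m ^ (n + 1)) a) :=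
      (congr($(Scheme.ΓSpecIso_inv_naturality (CommRingCat.ofHom (Ideal.Quotient.mk (m ^ (n + 1))))) a)).symm
    refine (congrArg _ h).trans ?_
    rw [Ideal.Quotient.eq_zero_iff_mem.2 ha, map_zero, map_zero]
  have : baseApp (A := A) (nbhd m X n) U a = 0 := by
    change Coh.resTop _ _ (Coh.toGlobal ((nbhd m X n) ↘ Spec (CommRingCat.of A)) a) = 0
    rw [h0, map_zero]
  rw [this, zero_smul]
  rfl

/-- The unit of a neighbourhood is the reduction. -/
theorem isQuot_unit (n : ℕ) (M : X.Modules) [M.IsQuasicoherent] :
    IsQuot (m ^ (n + 1)) ((Scheme.Modules.pullbackPushforwardAdjunction (incl m X n)).unit.app M) := by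
  let c := incl m X n
  let Ad := Scheme.Modules.pullbackPushforwardAdjunction c
  let p : M ⟶ Formal.modPow m (n + 1) M := Formal.modPowπ m (n + 1) M
  have hp : IsQuot (m ^ (n + 1)) p := isQuot_modPowπ m (n + 1) M
  have : (Formal.modPow m (n + 1) M).IsQuasicoherent := isQCoh_of_isQuot hp
  have hu : IsIso (Ad.unit.app (Formal.modPow m (n + 1) M)) := by
    refine (Groth.QCohMod.isIso_unit_closedImmersion_iff c _).2 fun U a ha s => ?_
    rw [Scheme.Hom.ker_apply, ker_app Ideal.Quotient.mk_surjective (IsPullback.of_hasPullback _ _) U,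
      Ideal.mk_ker] at ha
    refine Submodule.span_induction (fun y hy => ?_) (zero_smul _ s)
      (fun a b _ _ ha hb => by rw [add_smul, ha, hb, add_zero])
      (fun r a _ ha => by rw [smul_eq_mul, mul_smul, ha, smul_zero]) ha
    obtain ⟨b, hb, rfl⟩ := hy
    exact congr(($(hp.killedBy b hb)).app U.1 s)
  have hm : IsIso ((Scheme.Modules.pullback c).map p) :=
    (hp.map_adj Ad rfl).isIso_of_killedBy fun a ha => smulMod_nbhd m X n _ ha
  have e : Ad.unit.app M = p ≫ Ad.unit.app (Formal.modPow m (n + 1) M) ≫
      inv ((Scheme.Modules.pushforward c).map ((Scheme.Modules.pullback c).map p)) := by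
    rw [← Category.assoc, IsIso.eq_comp_inv]
    exact (Ad.unit.naturality p).symm
  rw [show (Scheme.Modules.pullbackPushforwardAdjunction (incl m X n)).unit.app M = _ from e]
  exact hp.comp_iso _

variable (L : ∀ n, (nbhd m X n).Modules)
  (a : ∀ n, (Scheme.Modules.pullback (step m X n)).obj (L (n + 1)) ≅ L n)

/-- Restriction along two successive neighbourhoods, as functors. -/
def restrNat (n : ℕ) : Scheme.Modules.pullback (incl m X n) ≅
    Scheme.Modules.pullback (incl m X (n + 1)) ⋙ Scheme.Modules.pullback (step m X n) :=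
  Scheme.Modules.pullbackCongr (step_incl m X n).symm ≪≫
    (Scheme.Modules.pullbackComp (step m X n) (incl m X (n + 1))).symm

/-- Restriction along two successive neighbourhoods. -/
def restrIso (n : ℕ) (M : X.Modules) : (Scheme.Modules.pullback (incl m X n)).obj M ≅
    (Scheme.Modules.pullback (step m X n)).obj ((Scheme.Modules.pullback (incl m X (n + 1))).obj M) :=
  (restrNat m X n).app M

theorem restrIso_naturality (n : ℕ) {M M' : X.Modules} (φ : M ⟶ M') :
    (Scheme.Modules.pullback (incl m X n)).map φ ≫ (restrIso m X n M').hom = (restrIso m X n M).hom ≫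
      (Scheme.Modules.pullback (step m X n)).map ((Scheme.Modules.pullback (incl m X (n + 1))).map φ) :=
  (restrNat m X n).hom.naturality φ

/-- The map to the previous level. -/
def levelHom (n : ℕ) :
    (Scheme.Modules.pullback (incl m X n)).obj ((Scheme.Modules.pushforward (incl m X (n + 1))).obj (L (n + 1))) ⟶ L n :=
  (restrIso m X n _).hom ≫ (Scheme.Modules.pullback (step m X n)).map
    ((Scheme.Modules.pullbackPushforwardAdjunction (incl m X (n + 1))).counit.app (L (n + 1))) ≫ (a n).hom

instance isIso_levelHom (n : ℕ) : IsIso (levelHom m X L a n) := by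
  have := Groth.Misc7.ClosedImm.isIso_counit (incl m X (n + 1))
  unfold levelHom
  infer_instance

/-- The transition of the formal module. -/
def levelMap (n : ℕ) : (Scheme.Modules.pushforward (incl m X (n + 1))).obj (L (n + 1)) ⟶
    (Scheme.Modules.pushforward (incl m X n)).obj (L n) :=
  (Scheme.Modules.pullbackPushforwardAdjunction (incl m X n)).homEquiv _ _ (levelHom m X L a n)

/-- The formal module of a system. -/
def formalMod : ℕᵒᵖ ⥤ X.Modules :=
  Functor.ofOpSequence (X := fun n => (Scheme.Modules.pushforward (incl m X n)).obj (L n)) (levelMap m X L a)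

theorem sysMap_formalMod (n : ℕ) : sysMap (formalMod m X L a) (Nat.le_succ n) = levelMap m X L a n :=
  Functor.ofOpSequence_map_homOfLE_succ _ n

theorem killedBy_formalMod (n : ℕ) :
    Formal.KilledBy (m ^ (n + 1)) ((Scheme.Modules.pushforward (incl m X n)).obj (L n)) := fun b hb => by
  rw [← Groth.CohC3.pushforward_map_smulMod (f := incl m X n) rfl, smulMod_nbhd m X n _ hb]
  have : (Scheme.Modules.pushforward (incl m X n)).Additive :=
    (Scheme.Modules.pullbackPushforwardAdjunction (incl m X n)).right_adjoint_additive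
  exact Functor.map_zero _ _ _

theorem isCohFormal_formalMod [IsLocallyNoetherian X] (hL : ∀ n, Coh.IsCoh (L n)) :
    Formal.IsCohFormal m (formalMod m X L a) := by
  refine ⟨fun n => Groth.CohC3.isCoh_pushforward (A := A) (f := incl m X n) rfl (hL n),
    killedBy_formalMod m X L, fun n => ?_⟩
  have : ((Scheme.Modules.pushforward (incl m X (n + 1))).obj (L (n + 1))).IsQuasicoherent :=
    (Groth.CohC3.isCoh_pushforward (A := A) (f := incl m X (n + 1)) rfl (hL (n + 1))).1
  have h : IsQuot (m ^ (n + 1)) (levelMap m X L a n) := by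
    rw [levelMap, Adjunction.homEquiv_unit]
    exact (isQuot_unit m X n _).comp_iso _
  have h' := h.isIso_desc
  rw [← sysMap_formalMod m X L a n] at h'
  exact h'

/-- A quasicoherent module restricting compatibly to the system completes to its formal module. -/
theorem nonempty_completion_iso (M : X.Modules) [M.IsQuasicoherent]
    (e : ∀ n, (Scheme.Modules.pullback (incl m X n)).obj M ≅ L n)
    (he : ∀ n, (e n).hom = (restrIso m X n M).hom ≫ (Scheme.Modules.pullback (step m X n)).map (e (n + 1)).hom ≫ (a n).hom) :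
    Nonempty (Formal.completion m M ≅ formalMod m X L a) := by
  let p : ∀ n, M ⟶ (formalMod m X L a).obj (op n) := fun n =>
    (Scheme.Modules.pullbackPushforwardAdjunction (incl m X n)).homEquiv _ _ (e n).hom
  refine Groth.CohC3.nonempty_completion_iso m M _ p (fun n => ?_) fun n => ?_
  · change IsQuot _ ((Scheme.Modules.pullbackPushforwardAdjunction (incl m X n)).homEquiv _ _ (e n).hom)
    rw [Adjunction.homEquiv_unit]
    exact (isQuot_unit m X n M).comp_iso _
  · rw [sysMap_formalMod]
    let Ad := Scheme.Modules.pullbackPushforwardAdjunction (incl m X n)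
    let Ad' := Scheme.Modules.pullbackPushforwardAdjunction (incl m X (n + 1))
    change Ad'.homEquiv _ _ (e (n + 1)).hom ≫ Ad.homEquiv _ _ (levelHom m X L a n) = Ad.homEquiv _ _ (e n).hom
    rw [← Adjunction.homEquiv_naturality_left]
    refine congrArg _ ?_
    have h1 : (Scheme.Modules.pullback (incl m X (n + 1))).map (Ad'.homEquiv _ _ (e (n + 1)).hom) ≫
        Ad'.counit.app (L (n + 1)) = (e (n + 1)).hom :=
      (Ad'.homEquiv_counit _ _ _).symm.trans (Equiv.symm_apply_apply _ _)
    rw [he n, levelHom, ← Category.assoc, restrIso_naturality, Category.assoc]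
    refine congrArg (_ ≫ ·) ?_
    rw [← Category.assoc, ← Functor.map_comp, h1]

end Groth.ArtfunDeform.PicLift
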