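import Groth.Agent.ArtfunDeform.PicLift.FormalSurj
import Groth.Agent.ArtfunDeform.VbLift.Def
import Groth.Agent.CohTwo.ExtStructure

/-!
Invertible modules trivial on the closed fibre of a proper flat scheme over a complete local ring.
-/

set_option autoImplicit false
set_option linter.style.longLine false

noncomputable section

universe u

open CategoryTheory CategoryTheory.Limits AlgebraicGeometry Opposite IsLocalRing
open Groth.ArtfunDeform.VbLift (toThick killed_idealMod isIso_of_pull_eq_id subsingleton_ext_left subsingleton_ext_right)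

namespace Groth.ArtfunDeform.PicLift

theorem pullback_map_injective {Z W : Scheme.{u}} (φ : Z ⟶ W) [IsIso φ] {M N : W.Modules} {a b : M ⟶ N}
    (h : (Scheme.Modules.pullback φ).map a = (Scheme.Modules.pullback φ).map b) : a = b := by
  let N₀ : Scheme.Modules.pullback φ ⋙ Scheme.Modules.pullback (inv φ) ≅ 𝟭 W.Modules :=
    Scheme.Modules.pullbackComp (inv φ) φ ≪≫ Scheme.Modules.pullbackCongr (IsIso.inv_hom_id φ) ≪≫
      Scheme.Modules.pullbackId W
  have ha := N₀.hom.naturality a
  have hb := N₀.hom.naturality b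
  rw [Functor.comp_map, h] at ha
  exact (cancel_epi (N₀.hom.app M)).1 (ha.symm.trans hb)

theorem exists_seq {β : ℕ → Type*} {P : ∀ n, β n → β (n + 1) → Prop} (b₀ : β 0)
    (h : ∀ n b, ∃ b', P n b b') : ∃ f : ∀ n, β n, ∀ n, P n (f n) (f (n + 1)) := by
  choose s hs using h
  exact ⟨fun n => Nat.rec b₀ s n, fun n => hs n _⟩

theorem subsingleton_ext_idealMod {T : Scheme.{u}} {I : T.IdealSheafData} (hI : I ^ 2 = ⊥)
    [HasExt.{u} I.subscheme.Modules] (h1 : Subsingleton (Coh.HH T (ClSub.idealMod I) 1)) :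
    Subsingleton (Abelian.Ext.{u} (Coh.structureModule I.subscheme)
      ((Scheme.Modules.pullback I.subschemeι).obj (ClSub.idealMod I)) 1) := by
  let J := (Scheme.Modules.pullback I.subschemeι).obj (ClSub.idealMod I)
  have hu := Groth.Misc7.ClosedImm.isIso_unit I.subschemeι (killed_idealMod hI)
  let e : ClSub.idealMod I ≅ (Scheme.Modules.pushforward I.subschemeι).obj J :=
    @asIso _ _ _ _ ((Scheme.Modules.pullbackPushforwardAdjunction I.subschemeι).unit.app (ClSub.idealMod I)) hu
  have : (ClSub.idealMod I).IsQuasicoherent := inferInstance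
  have : J.IsQuasicoherent := Groth.QCohMod.isQCoh_pullback_obj _ _
  obtain ⟨a⟩ := Groth.CohBase.nonempty_equiv_H_push I.subschemeι J 1
  have hJ : Subsingleton (Coh.HH I.subscheme J 1) :=
    @Equiv.subsingleton _ _ a.symm.toEquiv (Groth.SmoothExt.subsingleton_hh_of_iso e h1)
  obtain ⟨b⟩ := Groth.CohTwo.ExtStructure.nonempty_ext_structure_equiv I.subscheme J 1
  exact b.toEquiv.subsingleton

theorem nonempty_tensor_congr {Z : Scheme.{u}} (J : Z.Modules) {P Q : Z.Modules} (e : P ≅ Q) :
    Nonempty (CohB1.tensorMod J P ≅ CohB1.tensorMod J Q) :=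
  ⟨((DCoh.tensorBi (X := Z)).obj J).mapIso e⟩

theorem subsingleton_ext_tensor {Z : Scheme.{u}} [HasExt.{u} Z.Modules] (J P Q : Z.Modules)
    (eP : P ≅ Coh.structureModule Z) (eQ : Q ≅ Coh.structureModule Z)
    (h : Subsingleton (Abelian.Ext.{u} (Coh.structureModule Z) J 1)) :
    Subsingleton (Abelian.Ext.{u} P (CohB1.tensorMod J Q) 1) := by
  obtain ⟨b⟩ := nonempty_tensor_congr J eQ.symm
  let r : CohB1.tensorMod J (Coh.structureModule Z) ≅ J := SecTwist.unitorR J
  let c : J ≅ CohB1.tensorMod J Q := r.symm.trans b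
  have h' : Subsingleton (Abelian.Ext.{u} (Coh.structureModule Z) (CohB1.tensorMod J Q) 1) :=
    subsingleton_ext_right (C := Z.Modules) c h
  exact subsingleton_ext_left (C := Z.Modules) eP.symm h'

theorem exists_iso_lift_of_hom {T : Scheme.{u}} {I : T.IdealSheafData} (hI : I ^ 2 = ⊥)
    (h1 : Subsingleton (Coh.HH T (ClSub.idealMod I) 1)) {E F : T.Modules}
    (hE : FlatMod.IsFinLocFree E) (hF : FlatMod.IsFinLocFree F)
    (eE : (Scheme.Modules.pullback I.subschemeι).obj E ≅ Coh.structureModule I.subscheme)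
    (eF : (Scheme.Modules.pullback I.subschemeι).obj F ≅ Coh.structureModule I.subscheme)
    (w : (Scheme.Modules.pullback I.subschemeι).obj E ≅ (Scheme.Modules.pullback I.subschemeι).obj F) :
    ∃ v : E ≅ F, (Scheme.Modules.pullback I.subschemeι).map v.hom = w.hom := by
  classical
  have : HasExt.{u} I.subscheme.Modules := inferInstance
  have hO := subsingleton_ext_idealMod hI h1
  obtain ⟨a, ha⟩ := VbLift.exists_hom hI hE hF (subsingleton_ext_tensor _ _ _ eE eF hO) w.hom
  obtain ⟨c, hc⟩ := VbLift.exists_hom hI hF hE (subsingleton_ext_tensor _ _ _ eF eE hO) w.inv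
  have h₁ : IsIso (a ≫ c) := isIso_of_pull_eq_id hI hE (by rw [Functor.map_comp, ha, hc, w.hom_inv_id])
  have h₂ : IsIso (c ≫ a) := isIso_of_pull_eq_id hI hF (by rw [Functor.map_comp, ha, hc, w.inv_hom_id])
  have : Mono a := mono_of_mono a c
  have : Epi a := epi_of_epi c a
  have : IsIso a := isIso_of_mono_of_epi a
  exact ⟨asIso a, ha⟩

/-- Isomorphisms of modules trivial on a first order thickening extend when the first cohomology of the
ideal vanishes. -/
theorem exists_lift_iso {T T₁ : Scheme.{u}} (g : T₁ ⟶ T) [IsClosedImmersion g] (hI : g.ker ^ 2 = ⊥)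
    (h1 : Subsingleton (Coh.HH T (ClSub.idealMod g.ker) 1)) {E F : T.Modules}
    (hE : FlatMod.IsFinLocFree E) (hF : FlatMod.IsFinLocFree F)
    (eE : (Scheme.Modules.pullback g).obj E ≅ Coh.structureModule T₁)
    (eF : (Scheme.Modules.pullback g).obj F ≅ Coh.structureModule T₁)
    (u : (Scheme.Modules.pullback g).obj E ≅ (Scheme.Modules.pullback g).obj F) :
    ∃ v : E ≅ F, (Scheme.Modules.pullback g).map v.hom = u.hom := by
  let q : g.ker.subscheme ⟶ T₁ := inv g.toImage
  have : IsIso (Groth.PicAux.pullUnit q) := Groth.PicAux.isIso_pullUnit q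
  let N : Scheme.Modules.pullback g ⋙ Scheme.Modules.pullback q ≅ Scheme.Modules.pullback g.ker.subschemeι :=
    Scheme.Modules.pullbackComp q g ≪≫ Scheme.Modules.pullbackCongr VbLift.inv_toImage_comp
  let w := (N.app E).symm ≪≫ (Scheme.Modules.pullback q).mapIso u ≪≫ N.app F
  obtain ⟨v, hv⟩ := exists_iso_lift_of_hom hI h1 hE hF
    ((N.app E).symm ≪≫ (Scheme.Modules.pullback q).mapIso eE ≪≫ asIso (Groth.PicAux.pullUnit q))
    ((N.app F).symm ≪≫ (Scheme.Modules.pullback q).mapIso eF ≪≫ asIso (Groth.PicAux.pullUnit q)) w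
  refine ⟨v, pullback_map_injective q ?_⟩
  have hn := N.hom.naturality v.hom
  refine (cancel_mono (N.hom.app F)).1 (hn.trans ?_)
  rw [hv]
  exact (N.app E).hom_inv_id_assoc _

variable {A : Type u} [CommRing A] [IsNoetherianRing A] (m : Ideal A) [m.IsMaximal] (X : Scheme.{u})
  [X.Over (Spec (CommRingCat.of A))] [Flat (X ↘ Spec (CommRingCat.of A))]

/-- The lifting from one neighbourhood to the next. -/
theorem exists_lift_step (h : Subsingleton (Coh.HH (nbhd m X 0) (Coh.structureModule _) 1)) (n : ℕ)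
    {L : X.Modules} (hL : PicF.IsInvertible L)
    (e : (Scheme.Modules.pullback (incl m X n)).obj L ≅ (Scheme.Modules.pullback (incl m X n)).obj (Coh.structureModule X)) :
    ∃ e' : (Scheme.Modules.pullback (incl m X (n + 1))).obj L ≅
        (Scheme.Modules.pullback (incl m X (n + 1))).obj (Coh.structureModule X),
      e.hom = (restrIso m X n L).hom ≫ (Scheme.Modules.pullback (step m X n)).map e'.hom ≫
        (restrIso m X n (Coh.structureModule X)).inv := by
  obtain ⟨j, hj⟩ := exists_zero_square m (isPullback_step m X) (n + 1)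
  have := flat_nbhdTo m X (n + 1)
  have hs : Function.Surjective (red m (Nat.le_succ n)) := Ideal.Quotient.factor_surjective _
  have hs0 : Function.Surjective (red m (Nat.zero_le (n + 1))) := Ideal.Quotient.factor_surjective _
  have hc : IsClosedImmersion (step m X n) := MorphismProperty.of_isPullback (isPullback_step m X n).flip
    (IsClosedImmersion.spec_of_surjective _ hs)
  have hsq := ker_sq hs (ker_le m n) (ker_mul m n) (nbhdTo m X (n + 1))
    (isPullback_step m X n)
  have hh := subsingleton_hh_idealMod hs hs0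
    (isField_zero m) (IsNoetherian.noetherian _) (ker_mul m n) (nbhdTo m X (n + 1)) (isPullback_step m X n) hj 1 h
  have : IsIso (Groth.PicAux.pullUnit (incl m X n)) := Groth.PicAux.isIso_pullUnit _
  let u := (restrIso m X n L).symm ≪≫ e ≪≫ restrIso m X n (Coh.structureModule X)
  let tO : (Scheme.Modules.pullback (step m X n)).obj ((Scheme.Modules.pullback (incl m X (n + 1))).obj
      (Coh.structureModule X)) ≅ Coh.structureModule (nbhd m X n) :=
    (restrIso m X n _).symm ≪≫ asIso (Groth.PicAux.pullUnit (incl m X n))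
  obtain ⟨v, hv⟩ := exists_lift_iso (step m X n) ((pow_two _).trans hsq) hh
    (Groth.LocFree.isFinLocFree_pullback _ (Groth.LocFree.isFinLocFree_of_rank
      (Groth.LocFree.isInvertible_iff_ofRank_one.1 hL)))
    (Groth.LocFree.isFinLocFree_pullback _ (Groth.LocFree.isFinLocFree_of_rank
      (Groth.LocFree.isFinLocFreeOfRank_unit X))) (u ≪≫ tO) tO u
  refine ⟨v, ?_⟩
  rw [hv]
  simp [u]

/-- Compatible trivialisations on all neighbourhoods. -/
theorem exists_trivialisations (h : Subsingleton (Coh.HH (nbhd m X 0) (Coh.structureModule _) 1))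
    {L : X.Modules} (hL : PicF.IsInvertible L)
    (e₀ : (Scheme.Modules.pullback (incl m X 0)).obj L ≅ (Scheme.Modules.pullback (incl m X 0)).obj (Coh.structureModule X)) :
    ∃ e : ∀ n, (Scheme.Modules.pullback (incl m X n)).obj L ≅
        (Scheme.Modules.pullback (incl m X n)).obj (Coh.structureModule X),
      ∀ n, (e n).hom = (restrIso m X n L).hom ≫ (Scheme.Modules.pullback (step m X n)).map (e (n + 1)).hom ≫
        (restrIso m X n (Coh.structureModule X)).inv := by
  exact exists_seq e₀ fun n e => exists_lift_step m X h n hL e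

omit [IsNoetherianRing A] [m.IsMaximal] [Flat (X ↘ Spec (CommRingCat.of A))] in
theorem compat_comp {M N : X.Modules} (ψ : Formal.completion m M ≅ Formal.completion m N) (φ : M ⟶ N)
    (χ : N ⟶ M) (n : ℕ) (hφ : Formal.modPowπ m (n + 1) M ≫ ψ.hom.app (op n) = φ ≫ Formal.modPowπ m (n + 1) N)
    (hχ : Formal.modPowπ m (n + 1) N ≫ ψ.inv.app (op n) = χ ≫ Formal.modPowπ m (n + 1) M) :
    Formal.modPowπ m (n + 1) M ≫ (𝟙 (Formal.completion m M) : _ ⟶ _).app (op n) = (φ ≫ χ) ≫ Formal.modPowπ m (n + 1) M :=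
  (congrArg (Formal.modPowπ m (n + 1) M ≫ ·) (ψ.hom_inv_id_app (op n))).symm.trans
    ((Category.assoc _ _ _).symm.trans ((congrArg (· ≫ ψ.inv.app (op n)) hφ).trans
      ((Category.assoc _ _ _).trans ((congrArg (φ ≫ ·) hχ).trans (Category.assoc _ _ _).symm))))

end Groth.ArtfunDeform.PicLift

namespace Groth.ArtfunDeform.PicLift

variable {A : Type u} [CommRing A] [IsLocalRing A] [IsNoetherianRing A] [IsAdicComplete (maximalIdeal A) A]

/-- An invertible module trivial on the closed fibre is trivial when the first cohomology vanishes there. -/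
theorem nonempty_iso_structureModule (X : Scheme.{u}) [X.Over (Spec (CommRingCat.of A))]
    [IsProper (X ↘ Spec (CommRingCat.of A))] [Flat (X ↘ Spec (CommRingCat.of A))]
    (h : Subsingleton (Coh.HH (nbhd (maximalIdeal A) X 0) (Coh.structureModule _) 1))
    {L : X.Modules} (hL : PicF.IsInvertible L)
    (e₀ : Nonempty ((Scheme.Modules.pullback (incl (maximalIdeal A) X 0)).obj L ≅
      (Scheme.Modules.pullback (incl (maximalIdeal A) X 0)).obj (Coh.structureModule X))) :
    Nonempty (L ≅ Coh.structureModule X) := by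
  obtain ⟨e₀⟩ := e₀
  have := Groth.CohC3.isNoetherian_of_proper A X
  let m := maximalIdeal A
  obtain ⟨e, he⟩ := exists_trivialisations m X h hL e₀
  have hLc : Coh.IsCoh L := Groth.VarietyBC.CurveGG.isCoh_of_isInvertible hL
  have hOc : Coh.IsCoh (Coh.structureModule X) := Groth.VarietyBC.CurveGG.isCoh_of_isInvertible
    (Groth.LocFree.isInvertible_iff_ofRank_one.2 (Groth.LocFree.isFinLocFreeOfRank_unit X))
  have := hLc.1
  have := hOc.1
  let S := fun n => (Scheme.Modules.pullback (incl m X n)).obj (Coh.structureModule X)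
  let a := fun n => (restrIso m X n (Coh.structureModule X)).symm
  obtain ⟨θ⟩ := nonempty_completion_iso m X S a L e he
  obtain ⟨θ'⟩ := nonempty_completion_iso m X S a (Coh.structureModule X) (fun n => Iso.refl _) fun n => by
    simp [a, S]
  let ψ := θ ≪≫ θ'.symm
  obtain ⟨φ, hφ, -⟩ := Groth.CohC3.existsUnique_hom_proper X hLc hOc ψ.hom
  obtain ⟨χ, hχ, -⟩ := Groth.CohC3.existsUnique_hom_proper X hOc hLc ψ.inv
  obtain ⟨i, -, hi⟩ := Groth.CohC3.existsUnique_hom_proper X hLc hLc (𝟙 (Formal.completion m L))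
  obtain ⟨i', -, hi'⟩ := Groth.CohC3.existsUnique_hom_proper X hOc hOc (𝟙 (Formal.completion m (Coh.structureModule X)))
  have h1 : φ ≫ χ = 𝟙 L :=
    (hi _ fun n => compat_comp m X ψ φ χ n (hφ n) (hχ n)).trans
      (hi (𝟙 L) fun n => (Category.comp_id _).trans (Category.id_comp _).symm).symm
  have h2 : χ ≫ φ = 𝟙 (Coh.structureModule X) :=
    (hi' _ fun n => compat_comp m X ψ.symm χ φ n (hχ n) (hφ n)).trans
      (hi' (𝟙 _) fun n => (Category.comp_id _).trans (Category.id_comp _).symm).symm
  exact ⟨⟨φ, χ, h1, h2⟩⟩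

end Groth.ArtfunDeform.PicLift
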