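import Groth.Agent.ArtfunDeform.VbLift.KerIdeal
import Groth.Agent.CurveDiv.ThickLift
import Groth.Agent.PicAux.ThickInj
import Groth.Agent.CohBase.AffinePush
import Groth.Agent.QCohMod.PullbackQCoh
import Groth.Agent.EulerDeg.Coherent
import Groth.Agent.Flatmor4.ThickFT
import Groth.Prelude.Def_Formal2

/-!
Invertible modules along a small extension of the base of a flat scheme.
-/

set_option autoImplicit false
set_option linter.style.longLine false

noncomputable section

universe u

open CategoryTheory CategoryTheory.Limits AlgebraicGeometry TopologicalSpace Opposite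
open Groth.ArtfunDeform.VbLift (ker_app exists_idealMod_iso)

namespace Groth.ArtfunDeform.PicLift

attribute [local instance] Abelian.hasFiniteBiproducts

/-- A finitely generated ideal killed by a maximal ideal has generators independent modulo that ideal. -/
theorem exists_small_gens {A : Type u} [CommRing A] (M : Ideal A) [M.IsMaximal] (J : Ideal A) (hJ : J.FG)
    (kill : M * J = ⊥) :
    ∃ (n : ℕ) (t : Fin n → A), J = Ideal.span (Set.range t) ∧ (∀ c ∈ M, ∀ j, t j * c = 0) ∧
      ∀ c : Fin n → A, ∑ j, t j * c j = 0 → ∀ j, c j ∈ M := by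
  classical
  have hex : ∃ n, ∃ t : Fin n → A, J = Ideal.span (Set.range t) := by
    obtain ⟨n, t, ht⟩ := Submodule.fg_iff_exists_fin_generating_family.1 hJ
    exact ⟨n, t, ht.symm⟩
  obtain ⟨t, ht⟩ := Nat.find_spec hex
  refine ⟨Nat.find hex, t, ht, fun c hc j => ?_, fun c hc j => ?_⟩
  · have := Ideal.mul_mem_mul hc (ht ▸ Ideal.subset_span ⟨j, rfl⟩ : t j ∈ J)
    rw [kill, Ideal.mem_bot] at this
    rw [mul_comm, this]
  · by_contra hj
    obtain ⟨y, i, hi, hy⟩ := Ideal.IsMaximal.exists_inv ‹M.IsMaximal› hj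
    have hkill : t j * i = 0 := by
      have := Ideal.mul_mem_mul hi (ht ▸ Ideal.subset_span ⟨j, rfl⟩ : t j ∈ J)
      rw [kill, Ideal.mem_bot] at this
      rw [mul_comm, this]
    obtain ⟨m, hm⟩ : ∃ m, Nat.find hex = m + 1 := Nat.exists_eq_add_one.2 (Fin.pos j)
    refine Nat.find_min hex (show m < Nat.find hex by omega) ?_
    let g : Fin m → Fin (Nat.find hex) := fun l => Fin.cast hm.symm (Fin.succAbove (Fin.cast hm j) l)
    have hg : ∀ l, l ≠ j → ∃ l', g l' = l := fun l hl => by
      obtain ⟨l', hl'⟩ := Fin.exists_succAbove_eq (x := Fin.cast hm l) (y := Fin.cast hm j)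
        (fun e => hl (Fin.cast_injective hm e))
      exact ⟨l', Fin.cast_injective hm (hl'.trans rfl)⟩
    refine ⟨t ∘ g, le_antisymm ?_ (Ideal.span_le.2 ?_)⟩
    · refine ht.le.trans (Ideal.span_le.2 ?_)
      rintro _ ⟨l, rfl⟩
      have hne : ∀ l, l ≠ j → t l ∈ Ideal.span (Set.range (t ∘ g)) := fun l hl => by
        obtain ⟨l', rfl⟩ := hg l hl
        exact Ideal.subset_span ⟨l', rfl⟩
      rcases eq_or_ne l j with rfl | hl
      · have e : t l = - (y * ∑ x ∈ Finset.univ.erase l, t x * c x) := by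
          have := Finset.add_sum_erase Finset.univ (fun x => t x * c x) (Finset.mem_univ l)
          rw [hc] at this
          calc t l = t l * (y * c l + i) := by rw [hy, mul_one]
            _ = y * (t l * c l) := by rw [mul_add, hkill, add_zero]; ring
            _ = _ := by rw [eq_neg_iff_add_eq_zero, ← mul_add, this, mul_zero]
        rw [SetLike.mem_coe, e]
        refine neg_mem (Ideal.mul_mem_left _ _ (sum_mem fun x hx => ?_))
        exact Ideal.mul_mem_right _ _ (hne x (Finset.ne_of_mem_erase hx))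
      · exact hne l hl
    · rintro _ ⟨l, rfl⟩
      exact ht.symm.le (Ideal.subset_span ⟨g l, rfl⟩)

variable {A B k : Type u} [CommRing A] [CommRing B] [CommRing k] {π : A →+* B} {ρ : A →+* k}
  (hπ : Function.Surjective π) (hρ : Function.Surjective ρ) (hk : IsField k) (hfg : (RingHom.ker π).FG)
  (hle : RingHom.ker π ≤ RingHom.ker ρ) (hkill : RingHom.ker ρ * RingHom.ker π = ⊥)
  {T T₁ X₀ : Scheme.{u}} (f : T ⟶ Spec (CommRingCat.of A)) [Flat f]
  {c : T₁ ⟶ T} {f₁ : T₁ ⟶ Spec (CommRingCat.of B)}
  (h₁ : IsPullback c f₁ f (Spec.map (CommRingCat.ofHom π)))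
  {j₀ : X₀ ⟶ T} {f₀ : X₀ ⟶ Spec (CommRingCat.of k)}
  (h₀ : IsPullback j₀ f₀ f (Spec.map (CommRingCat.ofHom ρ)))

include hπ hle hkill h₁ in
omit [Flat f] in
theorem ker_sq : c.ker * c.ker = ⊥ := by
  let _ : T.Over (Spec (CommRingCat.of A)) := ⟨f⟩
  have hc : IsClosedImmersion c := MorphismProperty.of_isPullback h₁.flip
    (IsClosedImmersion.spec_of_surjective _ hπ)
  ext U : 2
  rw [Scheme.IdealSheafData.ideal_mul, Pi.mul_apply, Scheme.IdealSheafData.ideal_bot, Pi.bot_apply,
    Scheme.Hom.ker_apply, ker_app hπ h₁ U, ← Ideal.map_mul]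
  have h : RingHom.ker π * RingHom.ker π = ⊥ := le_bot_iff.1 ((Ideal.mul_mono_left hle).trans_eq hkill)
  rw [h, Ideal.map_bot]

include hπ hρ hk hfg hkill h₁ h₀ in
/-- The cohomology of the ideal of a small extension vanishes with that of the closed fibre. -/
theorem subsingleton_hh_idealMod (q : ℕ) (h : Subsingleton (Coh.HH X₀ (Coh.structureModule X₀) q)) :
    Subsingleton (Coh.HH T (ClSub.idealMod c.ker) q) := by
  let _ : T.Over (Spec (CommRingCat.of A)) := ⟨f⟩
  have : Flat (T ↘ Spec (CommRingCat.of A)) := ‹Flat f›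
  have : (RingHom.ker ρ).IsMaximal := by
    let _ := hk.toField
    exact RingHom.ker_isMaximal_of_surjective ρ hρ
  obtain ⟨n, t, ht, hk', hindep⟩ := exists_small_gens (RingHom.ker ρ) (RingHom.ker π) hfg hkill
  obtain ⟨e⟩ := exists_idealMod_iso hπ hρ ht hk' hindep h₁ h₀
  have hj : IsClosedImmersion j₀ := MorphismProperty.of_isPullback h₀.flip
    (IsClosedImmersion.spec_of_surjective _ hρ)
  have : (Coh.structureModule X₀).IsQuasicoherent := Groth.PicAux.isQCoh_structureModule X₀
  obtain ⟨a⟩ := Groth.CohBase.nonempty_equiv_H_push j₀ (Coh.structureModule X₀) q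
  have h3 : Subsingleton (Coh.HH T ((Scheme.Modules.pushforward j₀).obj (Coh.structureModule X₀)) q) :=
    @Equiv.subsingleton _ _ a.toEquiv h
  let F : T.Modules ⥤ AddCommGrpCat.{u} := SheafOfModules.toSheaf.{u} T.ringCatSheaf ⋙ Sheaf.functorH _ q
  have : F.Additive := inferInstanceAs
    (SheafOfModules.toSheaf.{u} T.ringCatSheaf ⋙ Sheaf.functorH _ q).Additive
  have hz : IsZero (F.obj (⨁ fun _ : Fin n => (Scheme.Modules.pushforward j₀).obj (Coh.structureModule X₀))) := by
    refine IsZero.of_iso ?_ (F.mapBiproduct _)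
    rw [IsZero.iff_id_eq_zero]
    refine biproduct.hom_ext _ _ fun l => ?_
    exact (@AddCommGrpCat.isZero_of_subsingleton _ h3).eq_of_tgt _ _
  exact AddCommGrpCat.subsingleton_of_isZero (hz.of_iso (F.mapIso e))

include hπ hρ hk hfg hle hkill h₁ h₀ in
/-- Invertible modules lift along a small extension when the second cohomology of the closed fibre vanishes. -/
theorem picPullbackSurjective [T.IsSeparated] (h : Subsingleton (Coh.HH X₀ (Coh.structureModule X₀) 2)) :
    Formal2.PicPullbackSurjective c := by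
  intro L hL
  have hc : IsClosedImmersion c := MorphismProperty.of_isPullback h₁.flip
    (IsClosedImmersion.spec_of_surjective _ hπ)
  obtain ⟨M, hM, ⟨e⟩⟩ := Groth.CurveDiv.ThickLift.exists_lift (ker_sq hπ hle hkill f h₁)
    (subsingleton_hh_idealMod hπ hρ hk hfg hkill f h₁ h₀ 2 h)
    (L₀ := (Scheme.Modules.pullback (inv c.toImage)).obj L) (Groth.PicAux.isInvertible_pullback _ hL)
  refine ⟨M, hM, ⟨(Scheme.Modules.pullbackCongr c.toImage_imageι.symm).app M ≪≫
    ((Scheme.Modules.pullbackComp c.toImage c.imageι).app M).symm ≪≫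
    (Scheme.Modules.pullback c.toImage).mapIso e ≪≫
    (Scheme.Modules.pullbackComp c.toImage (inv c.toImage)).app L ≪≫
    (Scheme.Modules.pullbackCongr (IsIso.hom_inv_id c.toImage)).app L ≪≫
    (Scheme.Modules.pullbackId T₁).app L⟩⟩

include hπ hρ hk hfg hle hkill h₁ h₀ in
/-- Lifts of invertible modules along a small extension are unique when the first cohomology of the closed
fibre vanishes. -/
theorem nonempty_iso (h : Subsingleton (Coh.HH X₀ (Coh.structureModule X₀) 1)) {L M : T.Modules}
    (hL : PicF.IsInvertible L) (hM : PicF.IsInvertible M)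
    (he : Nonempty ((Scheme.Modules.pullback c).obj L ≅ (Scheme.Modules.pullback c).obj M)) :
    Nonempty (L ≅ M) := by
  have hc : IsClosedImmersion c := MorphismProperty.of_isPullback h₁.flip
    (IsClosedImmersion.spec_of_surjective _ hπ)
  obtain ⟨e⟩ := he
  have hw : inv c.toImage ≫ c = c.imageι := by
    rw [IsIso.inv_comp_eq]
    exact c.toImage_imageι.symm
  let mv : ∀ N : T.Modules, (Scheme.Modules.pullback (inv c.toImage)).obj ((Scheme.Modules.pullback c).obj N) ≅
      (Scheme.Modules.pullback c.imageι).obj N := fun N =>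
    (Scheme.Modules.pullbackComp (inv c.toImage) c).app N ≪≫ (Scheme.Modules.pullbackCongr hw).app N
  exact Groth.PicAux.ThickInj.nonempty_iso (ker_sq hπ hle hkill f h₁)
    (subsingleton_hh_idealMod hπ hρ hk hfg hkill f h₁ h₀ 1 h) hL hM
    ⟨(mv L).symm ≪≫ (Scheme.Modules.pullback (inv c.toImage)).mapIso e ≪≫ mv M⟩

end Groth.ArtfunDeform.PicLift
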